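import Cfsg.Agent.Lib.Grp.J2.D0

set_option autoImplicit false
set_option maxRecDepth 100000
set_option Elab.async false

namespace Cfsg.Agent.CG.J2

noncomputable def tabs : List ℕ := [t0,t1,t2,t3,t4,t5,t6,t7,t8,t9,t10,t11,t12,t13,t14,t15,t16,t17,t18,t19,t20,t21,t22,t23,t24,t25,t26,t27,t28,t29,t30,t31,t32,t33,t34,t35,t36,t37,t38,t39,t40,t41,t42,t43,t44,t45,t46,t47,t48,t49,t50,t51,t52,t53,t54,t55,t56]
noncomputable abbrev app : ℕ → ℕ → ℕ := appT tabs t57 0xfff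
noncomputable def slpL : List (Bool × List ℕ) := [(false,[]),
  (false,[]),
  (false,[]),
  (false,[]),
  (false,[3,0,1,2,0]),
  (true,[4]),
  (false,[0]),
  (false,[4]),
  (true,[7]),
  (false,[4,6,4,1,2,3,1,2,0,2,3,4,1,6,1,5,3,2,0,2,1,3,2,1,5,6,5]),
  (false,[9,7,9,8,9,8,8]),
  (true,[10]),
  (false,[9,10,9,7,7,9,7]),
  (true,[12]),
  (false,[9,10,9,12,11,11,9]),
  (true,[14]),
  (false,[7,11,7,9,10,15,8,10,8]),
  (true,[16]),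
  (false,[8,12,15,7,7,9,8,8,8,11,11,15]),
  (true,[18]),
  (false,[11,15,8,11,15,9,7,7,12,7]),
  (true,[20]),
  (false,[11,15,12,11,9,13,11,7,11,9,13]),
  (true,[22]),
  (false,[16,20,11,15,15,9,8,15,10,9,7,9,10]),
  (true,[24]),
  (false,[24,24,7,13,14,14,8,8,12,9,7]),
  (true,[26]),
  (false,[23,25,19,11,14,7,14,8,8,12,8,10,15,9]),
  (true,[28]),
  (false,[27,29,24,21,9,13,9,14,13,14,12,9,8,12,7]),
  (true,[30]),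
  (false,[27,29,21,8,12,7,11,13,9,14]),
  (false,[32]),
  (false,[30]),
  (true,[34]),
  (false,[29,26,30]),
  (true,[36]),
  (false,[22,28,26]),
  (false,[21,18,25,28,30]),
  (false,[12,21,18,25,25,28,32]),
  (false,[9,15,12,17,18,29]),
  (true,[41]),
  (false,[10,14,7,21,17,24,23]),
  (false,[15,11,9,21,17,25,26]),
  (false,[13,10,21,17,24,23,28,26,30]),
  (false,[14,12,15,16,24,26]),
  (true,[46]),
  (false,[13,11,12,7,21,17,24,22,29]),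
  (true,[48]),
  (false,[18,16,23,28]),
  (true,[50]),
  (false,[25,30,32]),
  (true,[52]),
  (false,[25,25,26,30,32]),
  (true,[54]),
  (false,[12,10,18,16,25,25,29,26,30])]
noncomputable def slp (a : ℕ) : Bool × List ℕ := nth slpL (false, []) a
noncomputable def invL : List ℕ := [0,1,2,3,5,4,6,8,7,9,11,10,13,12,15,14,17,16,19,18,21,20,23,22,25,24,27,26,29,28,31,30,32,33,35,34,37,36,38,39,40,42,41,43,44,45,47,46,49,48,51,50,53,52,55,54,56]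
noncomputable def inv (a : ℕ) : ℕ := nth invL 57 a
noncomputable def bs : List ℕ := [972,2628,1056,2712,2544,2880]
noncomputable def mc0 : Lvl := ⟨972, [7,8,9,10,11,12,13,14,15], 315,
  fun i => look 0xfff mc0c (Nat.mul 12 i), fun i => look 0xfff mc0p (Nat.mul 12 i),
  fun i => look 255 mc0l (Nat.mul 8 i), fun i => look 255 mc0i (Nat.mul 8 i), fun x => look 0xfff mc0q x, 4⟩
noncomputable def mc1 : Lvl := ⟨2628, [16,17,18,19,20,21], 10,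
  fun i => look 0xfff mc1c (Nat.mul 12 i), fun i => look 0xf mc1p (Nat.mul 4 i),
  fun i => look 255 mc1l (Nat.mul 8 i), fun i => look 255 mc1i (Nat.mul 8 i), fun x => look 0xfff mc1q x, 2⟩
noncomputable def mc2 : Lvl := ⟨1056, [22,23,24,25], 8,
  fun i => look 0xfff mc2c (Nat.mul 12 i), fun i => look 0xf mc2p (Nat.mul 4 i),
  fun i => look 255 mc2l (Nat.mul 8 i), fun i => look 255 mc2i (Nat.mul 8 i), fun x => look 0xfff mc2q x, 2⟩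
noncomputable def mc3 : Lvl := ⟨2712, [26,27,28,29], 6,
  fun i => look 0xfff mc3c (Nat.mul 12 i), fun i => look 0xf mc3p (Nat.mul 4 i),
  fun i => look 255 mc3l (Nat.mul 8 i), fun i => look 255 mc3i (Nat.mul 8 i), fun x => look 0xfff mc3q x, 2⟩
noncomputable def mc4 : Lvl := ⟨2544, [30,31], 2,
  fun i => look 0xfff mc4c (Nat.mul 12 i), fun i => look 0xf mc4p (Nat.mul 4 i),
  fun i => look 255 mc4l (Nat.mul 8 i), fun i => look 255 mc4i (Nat.mul 8 i), fun x => look 0xfff mc4q x, 1⟩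
noncomputable def mc5 : Lvl := ⟨2880, [32], 2,
  fun i => look 0xfff mc5c (Nat.mul 12 i), fun i => look 0xf mc5p (Nat.mul 4 i),
  fun i => look 255 mc5l (Nat.mul 8 i), fun i => look 255 mc5i (Nat.mul 8 i), fun x => look 0xfff mc5q x, 1⟩
noncomputable def mc : List Lvl := [mc0, mc1, mc2, mc3, mc4, mc5]
noncomputable def tcR : List (List ℕ) := [[33,33],
  [34,35],
  [35,34],
  [34,34,33],
  [36,37],
  [37,36],
  [36,36,36],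
  [37,33,36,33],
  [36,35,36,34,36,35],
  [38,38],
  [38,33,38,33],
  [38,35,38,35],
  [38,36,38,36,38,36],
  [39,39],
  [39,33,39,33],
  [39,35,39,35],
  [39,36,39,36],
  [39,38,39,38,39,38],
  [40,40],
  [40,36,40,37],
  [40,38,40,38],
  [40,39,40,39],
  [40,33,40,33,40,33,40,33,40,33],
  [40,35,40,35,40,35,40,35,40,35,38,39],
  [40,35,37,38,40,36,34,40,37,34,40,36,38,39,38,37,35,36]]
noncomputable def tc0T : List ℕ := [0,0,0,0,0,0,0,0,0,0,0,0,0,0,0,0,0,0,0,0,0,0,0,0,0,0,0,0,0,0,0,0,0,tc0t33,tc0t34,tc0t35,tc0t36,tc0t37,tc0t38,tc0t39,tc0t40]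
noncomputable def tc0r : Tr Rule := (.node (.node (.node (.node (.node (.node (.node (.leaf ⟨40,[40],18,1⟩) (.leaf ⟨33,[39,33,39],14,1⟩)) (.leaf ⟨38,[35,38,35],11,0⟩)) (.node (.leaf ⟨36,[39,36,39],16,3⟩) (.leaf ⟨40,[36,40,37],19,0⟩))) (.node (.node (.node (.leaf ⟨34,[33,34],3,1⟩) (.leaf ⟨35,[40,35,40,35,40,35,40,35,38,39,40],23,1⟩)) (.leaf ⟨38,[39,38,39,38,39],17,5⟩)) (.node (.leaf ⟨34,[36,35,36,35,36],8,3⟩) (.leaf ⟨38,[40,38,40],20,1⟩)))) (.node (.node (.node (.node (.leaf ⟨37,[36],4,1⟩) (.leaf ⟨40,[35,38,39,40,35,40,35,40,35,40,35],23,8⟩)) (.leaf ⟨36,[34,36,35,36,35],8,2⟩)) (.node (.leaf ⟨39,[38,39,38,39,38],17,4⟩) (.leaf ⟨36,[34,40,37,34,40,36,38,39,38,37,35,36,40,35,37,38,40],24,5⟩))) (.node (.node (.node (.leaf ⟨33,[36,33,37],7,1⟩) (.leaf ⟨34,[40,37,34,40,36,38,39,38,37,35,36,40,35,37,38,40,36],24,6⟩)) (.leaf ⟨40,[35,40,35,38,39,40,35,40,35,40,35],23,6⟩))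 (.node (.leaf ⟨38,[33,38,33],10,2⟩) (.leaf ⟨33,[38,33,38],10,1⟩))))) (.node (.node (.node (.node (.node (.leaf ⟨35,[34],1,1⟩) (.leaf ⟨36,[35,36,34,36,35],8,0⟩)) (.leaf ⟨39,[35,39,35],15,0⟩)) (.node (.leaf ⟨35,[38,35,38],11,3⟩) (.leaf ⟨39,[33,39,33],14,0⟩))) (.node (.node (.node (.leaf ⟨34,[34,33],3,0⟩) (.leaf ⟨34,[40,36,38,39,38,37,35,36,40,35,37,38,40,36,34,40,37],24,9⟩)) (.leaf ⟨37,[33,36,33],7,0⟩)) (.node (.leaf ⟨35,[36,34,36,35,36],8,1⟩) (.leaf ⟨39,[36,39,36],16,0⟩)))) (.node (.node (.node (.node (.leaf ⟨38,[38],9,1⟩) (.leaf ⟨33,[40,33,40,33,40,33,40,33,40],22,5⟩)) (.leaf ⟨39,[33,39,33],14,2⟩)) (.node (.leaf ⟨36,[40,37,40],19,1⟩) (.leaf ⟨40,[38,40,38],20,2⟩))) (.node (.node (.node (.leaf ⟨33,[38,33,38],10,3⟩) (.leaf ⟨39,[40,35,40,35,40,35,40,35,40,35,38],23,11⟩)) (.leaf ⟨35,[40,35,40,35,38,39,40,35,40,35,40],23,5⟩)) (.node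 (.leaf ⟨36,[38,36,38,36,38],12,5⟩) (.leaf ⟨40,[38,40,38],20,0⟩)))))) (.node (.node (.node (.node (.node (.node (.leaf ⟨33,[33],0,1⟩) (.leaf ⟨40,[39,40,39],21,0⟩)) (.leaf ⟨39,[35,39,35],15,2⟩)) (.node (.leaf ⟨35,[39,35,39],15,3⟩) (.leaf ⟨38,[33,38,33],10,0⟩))) (.node (.node (.node (.leaf ⟨33,[34,34],3,2⟩) (.leaf ⟨40,[36,34,40,37,34,40,36,38,39,38,37,35,36,40,35,37,38],24,4⟩)) (.leaf ⟨36,[38,36,38,36,38],12,3⟩)) (.node (.leaf ⟨35,[36,35,36,34,36],8,5⟩) (.leaf ⟨39,[40,39,40],21,1⟩)))) (.node (.node (.node (.node (.leaf ⟨36,[37],4,0⟩) (.leaf ⟨40,[35,40,35,40,35,40,35,40,35,38,39],23,0⟩)) (.leaf ⟨39,[40,39,40],21,3⟩)) (.node (.leaf ⟨37,[40,36,40],19,3⟩) (.leaf ⟨37,[38,40,36,34,40,37,34,40,36,38,39,38,37,35,36,40,35],24,2⟩))) (.node (.node (.node (.leaf ⟨33,[37,33,36],7,3⟩) (.leaf ⟨35,[38,39,40,35,40,35,40,35,40,35,40],23,9⟩)) (.leaf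 ⟨35,[40,35,38,39,40,35,40,35,40,35,40],23,7⟩)) (.node (.leaf ⟨38,[35,38,35],11,2⟩) (.leaf ⟨35,[38,35,38],11,1⟩))))) (.node (.node (.node (.node (.node (.leaf ⟨34,[35],1,0⟩) (.leaf ⟨33,[40,33,40,33,40,33,40,33,40],22,7⟩)) (.leaf ⟨36,[35,36,35,36,34],8,4⟩)) (.node (.leaf ⟨38,[36,38,36,38,36],12,4⟩) (.leaf ⟨40,[36,38,39,38,37,35,36,40,35,37,38,40,36,34,40,37,34],24,10⟩))) (.node (.node (.node (.leaf ⟨36,[36,36],6,2⟩) (.leaf ⟨40,[35,40,35,40,35,38,39,40,35,40,35],23,4⟩)) (.leaf ⟨40,[33,40,33,40,33,40,33,40,33],22,6⟩)) (.node (.leaf ⟨38,[40,38,40],20,3⟩) (.leaf ⟨35,[39,35,39],15,1⟩)))) (.node (.node (.node (.node (.leaf ⟨39,[39],13,1⟩) (.leaf ⟨35,[40,35,40,35,40,35,38,39,40,35,40],23,3⟩)) (.leaf ⟨39,[36,39,36],16,2⟩)) (.node (.leaf ⟨36,[33,37,33],7,2⟩) (.leaf ⟨40,[39,40,39],21,2⟩))) (.node (.node (.leaf ⟨33,[39,33,39],14,3⟩) (.leaf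 ⟨40,[37,40,36],19,2⟩)) (.node (.leaf ⟨36,[36,36],6,1⟩) (.leaf ⟨36,[39,36,39],16,1⟩)))))))
noncomputable def tc0 : TCL := ⟨[33,34,35,36,37,38,39,40], [33,34,35,36,37,38,39], 315, 28, 0x3fff, 14, 0x7f,
  fun a x => look 0xfffffff (nth tc0T 0 a) x, fun x => look 0xfffffff tc0d x, tc0r⟩
noncomputable def tc1T : List ℕ := [0,0,0,0,0,0,0,0,0,0,0,0,0,0,0,0,0,0,0,0,0,0,0,0,0,0,0,0,0,0,0,0,0,tc1t33,tc1t34,tc1t35,tc1t36,tc1t37,tc1t38,tc1t39]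
noncomputable def tc1r : Tr Rule := (.node (.node (.node (.node (.node (.leaf ⟨39,[39],13,1⟩) (.leaf ⟨35,[36,35,36,34,36],8,5⟩)) (.node (.leaf ⟨33,[37,33,36],7,3⟩) (.leaf ⟨39,[35,39,35],15,2⟩))) (.node (.node (.leaf ⟨35,[34],1,1⟩) (.leaf ⟨38,[35,38,35],11,2⟩)) (.leaf ⟨35,[39,35,39],15,3⟩))) (.node (.node (.node (.leaf ⟨37,[36],4,1⟩) (.leaf ⟨36,[39,36,39],16,3⟩)) (.leaf ⟨34,[34,33],3,0⟩)) (.node (.node (.leaf ⟨33,[39,33,39],14,3⟩) (.leaf ⟨39,[38,39,38,39,38],17,4⟩)) (.leaf ⟨35,[38,35,38],11,3⟩)))) (.node (.node (.node (.node (.leaf ⟨38,[38],9,1⟩) (.leaf ⟨34,[36,35,36,35,36],8,3⟩)) (.node (.leaf ⟨33,[36,33,37],7,1⟩) (.leaf ⟨38,[39,38,39,38,39],17,3⟩))) (.node (.node (.leaf ⟨36,[36,36],6,2⟩) (.leaf ⟨36,[38,36,38,36,38],12,3⟩)) (.leaf ⟨34,[35],1,0⟩))) (.node (.node (.node (.leaf ⟨36,[37],4,0⟩) (.leaf ⟨38,[36,38,36,38,36],12,4⟩)) (.leaf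 ⟨33,[34,34],3,2⟩)) (.node (.node (.leaf ⟨33,[38,33,38],10,3⟩) (.leaf ⟨39,[36,39,36],16,2⟩)) (.leaf ⟨36,[35,36,35,36,34],8,4⟩)))))
noncomputable def tc1 : TCL := ⟨[33,34,35,36,37,38,39], [33,34,35,36,37,38], 10, 20, 0xff, 8, 0x1f,
  fun a x => look 0xfffff (nth tc1T 0 a) x, fun x => look 0xfffff tc1d x, tc1r⟩
noncomputable def tc2T : List ℕ := [0,0,0,0,0,0,0,0,0,0,0,0,0,0,0,0,0,0,0,0,0,0,0,0,0,0,0,0,0,0,0,0,0,tc2t33,tc2t34,tc2t35,tc2t36,tc2t37,tc2t38]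
noncomputable def tc2r : Tr Rule := (.node (.node (.node (.node (.node (.leaf ⟨38,[38],9,1⟩) (.leaf ⟨38,[35,38,35],11,2⟩)) (.leaf ⟨34,[34,33],3,0⟩)) (.node (.leaf ⟨36,[36,36],6,2⟩) (.leaf ⟨36,[35,36,35,36,34],8,4⟩))) (.node (.node (.leaf ⟨36,[37],4,0⟩) (.leaf ⟨35,[38,35,38],11,3⟩)) (.node (.leaf ⟨33,[37,33,36],7,3⟩) (.leaf ⟨34,[36,35,36,35,36],8,3⟩)))) (.node (.node (.node (.node (.leaf ⟨37,[36],4,1⟩) (.leaf ⟨36,[38,36,38,36,38],12,3⟩)) (.leaf ⟨33,[34,34],3,2⟩)) (.node (.leaf ⟨33,[38,33,38],10,3⟩) (.leaf ⟨35,[36,35,36,34,36],8,5⟩))) (.node (.node (.leaf ⟨35,[34],1,1⟩) (.leaf ⟨34,[35],1,0⟩)) (.node (.leaf ⟨33,[36,33,37],7,1⟩) (.leaf ⟨38,[36,38,36,38,36],12,4⟩)))))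
noncomputable def tc2 : TCL := ⟨[33,34,35,36,37,38], [33,34,35,36,37], 8, 20, 0xff, 8, 0x1f,
  fun a x => look 0xfffff (nth tc2T 0 a) x, fun x => look 0xfffff tc2d x, tc2r⟩
noncomputable def tc3T : List ℕ := [0,0,0,0,0,0,0,0,0,0,0,0,0,0,0,0,0,0,0,0,0,0,0,0,0,0,0,0,0,0,0,0,0,tc3t33,tc3t34,tc3t35,tc3t36,tc3t37]
noncomputable def tc3r : Tr Rule := (.node (.node (.node (.node (.leaf ⟨37,[36],4,1⟩) (.leaf ⟨36,[35,36,35,36,34],8,4⟩)) (.leaf ⟨33,[37,33,36],7,3⟩)) (.node (.node (.leaf ⟨35,[34],1,1⟩) (.leaf ⟨34,[36,35,36,35,36],8,3⟩)) (.leaf ⟨34,[34,33],3,0⟩))) (.node (.node (.node (.leaf ⟨36,[37],4,0⟩) (.leaf ⟨35,[36,35,36,34,36],8,5⟩)) (.leaf ⟨33,[36,33,37],7,1⟩)) (.node (.leaf ⟨36,[36,36],6,2⟩) (.leaf ⟨33,[34,34],3,2⟩))))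
noncomputable def tc3 : TCL := ⟨[33,34,35,36,37], [33,34,35], 6, 16, 0x7f, 7, 0xf,
  fun a x => look 0xffff (nth tc3T 0 a) x, fun x => look 0xffff tc3d x, tc3r⟩
noncomputable def tc4T : List ℕ := [0,0,0,0,0,0,0,0,0,0,0,0,0,0,0,0,0,0,0,0,0,0,0,0,0,0,0,0,0,0,0,0,0,tc4t33,tc4t34,tc4t35]
noncomputable def tc4r : Tr Rule := (.node (.node (.leaf ⟨35,[34],1,1⟩) (.leaf ⟨33,[34,34],3,2⟩)) (.leaf ⟨34,[34,33],3,0⟩))
noncomputable def tc4 : TCL := ⟨[33,34,35], [33], 2, 16, 0x3f, 6, 0x7,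
  fun a x => look 0xffff (nth tc4T 0 a) x, fun x => look 0xffff tc4d x, tc4r⟩
noncomputable def tc5T : List ℕ := [0,0,0,0,0,0,0,0,0,0,0,0,0,0,0,0,0,0,0,0,0,0,0,0,0,0,0,0,0,0,0,0,0,tc5t33]
noncomputable def tc5r : Tr Rule := (.leaf ⟨33,[33],0,1⟩)
noncomputable def tc5 : TCL := ⟨[33], [], 2, 16, 0x3f, 6, 0x3,
  fun a x => look 0xffff (nth tc5T 0 a) x, fun x => look 0xffff tc5d x, tc5r⟩
noncomputable def tc : List TCL := [tc0, tc1, tc2, tc3, tc4, tc5]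
noncomputable def inW : List (List ℕ) := [[40,35,37,38,36,34,40,33,40,39,38,37,34,36,38,39,34,36,38,36,34,33],
  [40,39,35,37,38,36,34,40,33,40,37,38,39,38,37,34,36,38,37,34,36],
  [40,36,34,40,33,40,38,37,34,36,38,39,37,34,36,38,34,37,34,33],
  [40,35,40,33,40,34,40,38,37,34,36,38,39,34,37,33]]
noncomputable def tcS : List ℕ := [33,34,35,36,37,38,39,40]

end Cfsg.Agent.CG.J2
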