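import Cfsg.Agent.Lib.Grp.J2.ODefs

set_option autoImplicit false
set_option maxRecDepth 100000
set_option Elab.async false

namespace Cfsg.Agent.CG.J2

theorem Oc108 : cc0.chk (appT tabs t57 0xfff) 1 159 = true := by decide +kernel
theorem Oc109 : cc1.chk (appT tabs t57 0xfff) 1 3 = true := by decide +kernel
theorem Oc110 : cc2.chk (appT tabs t57 0xfff) 1 2 = true := by decide +kernel
theorem Oc111 : okcb 315 12 (bases cc) = true := by decide +kernel
theorem Oc112 : headAll (appT tabs t57 0xfff) cc [] = true := by decide +kernel
theorem Oc113 : tp0.head tpR = true := by decide +kernel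
theorem Oc114 : allL (fun a => tp0.chk a 0 tp0.N) tp0.S = true := by decide +kernel
theorem Oc115 : tcLink tp [] [41,42,43,44] = true := by decide +kernel
theorem Oc116 : pc0.chk (appT tabs t57 0xfff) 1 127 = true := by decide +kernel
theorem Oc117 : okcb 315 12 (bases pc) = true := by decide +kernel
theorem Oc118 : headAll (appT tabs t57 0xfff) pc [] = true := by decide +kernel
theorem Oc119 : allL (fun v => eqW (appT tabs t57 0xfff) bs v []) tpR = true := by decide +kernel
theorem Oc120 : trChk (appT tabs t57 0xfff) mc0 [mc1, mc2, mc3, mc4, mc5] bs (diagQ pQ) (diagQ pR) pF 0 315 = true := by decide +kernel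
theorem Oc121 : classChk (appT tabs t57 0xfff) bs 9 2 45 [14,14,9,18,28,26,30,32] pS pF pU = true := by decide +kernel
theorem Oc122 : powChk (appT tabs t57 0xfff) bs 7 7 aK nK = true := by decide +kernel
theorem Oc123 : en.chk (appT tabs t57 0xfff) tst 0 315 0 15385921 = true := by decide +kernel
theorem Oc124 : commAll (appT tabs t57 0xfff) bs 9 cc = true := by decide +kernel
theorem Oc125 : relChk (appT tabs t57 0xfff) bs 7 9 rT = true := by decide +kernel
theorem Oc126 : eqW (appT tabs t57 0xfff) bs (substW img [33,33]) [] = true := by decide +kernel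
theorem Oc127 : eqW (appT tabs t57 0xfff) bs (substW img [34,35]) [] = true := by decide +kernel
theorem Oc128 : eqW (appT tabs t57 0xfff) bs (substW img [35,34]) [] = true := by decide +kernel
theorem Oc129 : eqW (appT tabs t57 0xfff) bs (substW img [34,34,33]) [] = true := by decide +kernel
theorem Oc130 : eqW (appT tabs t57 0xfff) bs (substW img [36,37]) [] = true := by decide +kernel
theorem Oc131 : eqW (appT tabs t57 0xfff) bs (substW img [37,36]) [] = true := by decide +kernel
theorem Oc132 : eqW (appT tabs t57 0xfff) bs (substW img [36,36,36]) [] = true := by decide +kernel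
theorem Oc133 : eqW (appT tabs t57 0xfff) bs (substW img [37,33,36,33]) [] = true := by decide +kernel
theorem Oc134 : eqW (appT tabs t57 0xfff) bs (substW img [36,35,36,34,36,35]) [] = true := by decide +kernel
theorem Oc135 : eqW (appT tabs t57 0xfff) bs (substW img [38,38]) [] = true := by decide +kernel
theorem Oc136 : eqW (appT tabs t57 0xfff) bs (substW img [38,33,38,33]) [] = true := by decide +kernel
theorem Oc137 : eqW (appT tabs t57 0xfff) bs (substW img [38,35,38,35]) [] = true := by decide +kernel
theorem Oc138 : eqW (appT tabs t57 0xfff) bs (substW img [38,36,38,36,38,36]) [] = true := by decide +kernel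
theorem Oc139 : eqW (appT tabs t57 0xfff) bs (substW img [39,39]) [] = true := by decide +kernel
theorem Oc140 : eqW (appT tabs t57 0xfff) bs (substW img [39,33,39,33]) [] = true := by decide +kernel
theorem Oc141 : eqW (appT tabs t57 0xfff) bs (substW img [39,35,39,35]) [] = true := by decide +kernel
theorem Oc142 : eqW (appT tabs t57 0xfff) bs (substW img [39,36,39,36]) [] = true := by decide +kernel
theorem Oc143 : eqW (appT tabs t57 0xfff) bs (substW img [39,38,39,38,39,38]) [] = true := by decide +kernel
theorem Oc144 : eqW (appT tabs t57 0xfff) bs (substW img [40,40]) [] = true := by decide +kernel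
theorem Oc145 : eqW (appT tabs t57 0xfff) bs (substW img [40,36,40,37]) [] = true := by decide +kernel
theorem Oc146 : eqW (appT tabs t57 0xfff) bs (substW img [40,38,40,38]) [] = true := by decide +kernel
theorem Oc147 : eqW (appT tabs t57 0xfff) bs (substW img [40,39,40,39]) [] = true := by decide +kernel
theorem Oc148 : eqW (appT tabs t57 0xfff) bs (substW img [40,33,40,33,40,33,40,33,40,33]) [] = true := by decide +kernel
theorem Oc149 : eqW (appT tabs t57 0xfff) bs (substW img [40,35,40,35,40,35,40,35,40,35,38,39]) [] = true := by decide +kernel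
theorem Oc150 : eqW (appT tabs t57 0xfff) bs (substW img [40,35,37,38,40,36,34,40,37,34,40,36,38,39,38,37,35,36]) [] = true := by decide +kernel
theorem Oc151 : trChk (appT tabs t57 0xfff) mc0 [mc1, mc2, mc3, mc4, mc5] bs (pairQ 7 9 7 56 nQ) (pairQ 7 9 7 56 [[0], [1]]) [] 0 315 = true := by decide +kernel

end Cfsg.Agent.CG.J2
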