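import Cfsg.Agent.Lib.Grp.J2.OD1
import Cfsg.Agent.Lib.Grp.J2.Defs

set_option autoImplicit false
set_option maxRecDepth 100000
set_option Elab.async false

namespace Cfsg.Agent.CG.J2

noncomputable def cc0 : Lvl := ⟨972, [46,47,48,49], 160,
  fun i => look 0xfff cc0c (Nat.mul 12 i), fun i => look 0xff cc0p (Nat.mul 8 i),
  fun i => look 255 cc0l (Nat.mul 8 i), fun i => look 255 cc0i (Nat.mul 8 i), fun x => look 0xfff cc0q x, 6⟩
noncomputable def cc1 : Lvl := ⟨2628, [50,51,52,53], 4,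
  fun i => look 0xfff cc1c (Nat.mul 12 i), fun i => look 0xf cc1p (Nat.mul 4 i),
  fun i => look 255 cc1l (Nat.mul 8 i), fun i => look 255 cc1i (Nat.mul 8 i), fun x => look 0xfff cc1q x, 2⟩
noncomputable def cc2 : Lvl := ⟨1056, [54,55], 3,
  fun i => look 0xfff cc2c (Nat.mul 12 i), fun i => look 0xf cc2p (Nat.mul 4 i),
  fun i => look 255 cc2l (Nat.mul 8 i), fun i => look 255 cc2i (Nat.mul 8 i), fun x => look 0xfff cc2q x, 1⟩
noncomputable def cc : List Lvl := [cc0, cc1, cc2]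
noncomputable def pc0 : Lvl := ⟨972, [41,42,43,44], 128,
  fun i => look 0xfff pc0c (Nat.mul 12 i), fun i => look 0xff pc0p (Nat.mul 8 i),
  fun i => look 255 pc0l (Nat.mul 8 i), fun i => look 255 pc0i (Nat.mul 8 i), fun x => look 0xfff pc0q x, 7⟩
noncomputable def pc : List Lvl := [pc0]
noncomputable def tpR : List (List ℕ) := [[41,42],
  [42,41],
  [43,43],
  [44,44],
  [41,44,41,44],
  [43,44,43,44],
  [41,41,41,41,41,41,41,41],
  [42,43,41,41,41,41,43,42,42,42],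
  [42,42,43,41,43,41,43,41,43,42],
  [42,42,43,42,43,41,43,42,43,42]]
noncomputable def tp0T : List ℕ := [0,0,0,0,0,0,0,0,0,0,0,0,0,0,0,0,0,0,0,0,0,0,0,0,0,0,0,0,0,0,0,0,0,0,0,0,0,0,0,0,0,tp0t41,tp0t42,tp0t43,tp0t44]
noncomputable def tp0r : Tr Rule := (.node (.node (.node (.node (.node (.leaf ⟨42,[41],0,1⟩) (.leaf ⟨43,[41,43,42,42,42,43,41,43,41],8,6⟩)) (.node (.leaf ⟨41,[43,42,42,42,42,43,41,41,41],7,5⟩) (.leaf ⟨43,[42,42,42,43,42,43,41,43,42],9,8⟩))) (.node (.node (.leaf ⟨41,[44,41,44],4,2⟩) (.leaf ⟨43,[42,43,42,42,42,43,42,43,41],9,6⟩)) (.node (.leaf ⟨42,[42,42,43,41,41,41,41,43,42],7,8⟩) (.leaf ⟨42,[42,43,42,43,41,43,42,43,42],9,0⟩)))) (.node (.node (.node (.leaf ⟨43,[43],2,1⟩) (.leaf ⟨43,[41,43,41,43,42,42,42,43,41],8,4⟩)) (.node (.leaf ⟨42,[42,42,42,43,41,41,41,41,43],7,7⟩) (.leaf ⟨42,[42,42,43,42,43,41,43,42,43],9,9⟩))) (.node (.node (.leaf ⟨41,[41,41,41,41,41,41,41],6,4⟩)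 (.leaf ⟨42,[43,42,42,42,43,42,43,41,43],9,7⟩)) (.leaf ⟨42,[42,43,41,41,41,41,43,42,42],7,9⟩)))) (.node (.node (.node (.node (.leaf ⟨41,[42],0,0⟩) (.leaf ⟨41,[43,41,43,42,42,42,43,41,43],8,5⟩)) (.node (.leaf ⟨41,[41,43,42,42,42,42,43,41,41],7,4⟩) (.leaf ⟨42,[43,41,43,42,43,42,42,42,43],9,3⟩))) (.node (.node (.leaf ⟨43,[44,43,44],5,2⟩) (.leaf ⟨41,[43,42,43,42,42,42,43,42,43],9,5⟩)) (.leaf ⟨41,[41,41,41,43,42,42,42,42,43],7,2⟩))) (.node (.node (.node (.leaf ⟨44,[44],3,1⟩) (.leaf ⟨42,[42,43,41,43,41,43,41,43,42],8,0⟩)) (.node (.leaf ⟨41,[41,41,43,42,42,42,42,43,41],7,3⟩) (.leaf ⟨43,[42,43,41,43,42,43,42,42,42],9,2⟩))) (.node (.node (.leaf ⟨41,[41,41,41,41,41,41,41],6,5⟩) (.leaf ⟨43,[41,43,42,43,42,42,42,43,42],9,4⟩)) (.leaf ⟨42,[43,41,41,41,41,43,42,42,42],7,0⟩)))))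
noncomputable def tp0 : TCL := ⟨[41,42,43,44], [], 128, 24, 0xfff, 12, 0x1f,
  fun a x => look 0xffffff (nth tp0T 0 a) x, fun x => look 0xffffff tp0d x, tp0r⟩
noncomputable def tp : List TCL := [tp0]
noncomputable def pS : List ℕ := [41,42,43,44]
noncomputable def pQ : List (List ℕ) := [[],
  [43,41,41,43,41,41],
  [44,42,42,42],
  [44,43,42,43],
  [44,41,41,41],
  [41,41,41,41]]
noncomputable def pR : List (List ℕ) := [[41],
  [42],
  [43],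
  [44]]
noncomputable def pF : List (List ℕ) := [[],
  [13,10,21,17,24,23,28,26,30]]
noncomputable def pU : List (List ℕ) := [[11,7,7,18,16,25,26,30,32]]
noncomputable def aK : List ℕ := [7]
noncomputable def nK : List (List ℕ × ℕ) := [([],0),
  ([],7),
  ([14,10,14,20,25,29],7),
  ([11,15,12,17,25,29,30],7),
  ([7,15,13,18,16,25,25,28,26,32],7),
  ([11,15,8,21,17,22,26,30,32],7),
  ([7,21,18,25,26],7)]
noncomputable def rT : List (List ℕ × ℕ) := [([0,1,0,1,0,1,0,1,0,1],264),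
  ([0,1,0,1,0,1,0,1,0,1],1416)]
noncomputable def uu : List (List ℕ) := [[],
  [7],
  [7,7],
  [7,7,7],
  [8],
  [8,8],
  [8,8,8]]
noncomputable def wT : Tr ℕ := (.leaf w0)
noncomputable def en : Enum := ⟨inv, 8, 255, 3, fun i => force (Nat.shiftRight i 10) fun c => look 0xffffff (wT.get c) (Nat.mul 24 (Nat.land i 1023)), 9, [276,84], 4096⟩
noncomputable def tst : (ℕ → ℕ) → Bool := outTest (appT tabs t57 0xfff) bs aK rT [(7, 9), (7, 56)] uu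
noncomputable def imgL : List (List ℕ) := [[],
  [],
  [],
  [],
  [],
  [],
  [],
  [],
  [],
  [],
  [],
  [],
  [],
  [],
  [],
  [],
  [],
  [],
  [],
  [],
  [],
  [],
  [],
  [],
  [],
  [],
  [],
  [],
  [],
  [],
  [],
  [],
  [],
  [32],
  [30,32],
  [30],
  [29],
  [28],
  [18,24,22,29,26,30],
  [21,18,25,28],
  [14,10,7,17,18,24,23,26,30,32]]
noncomputable def img (a : ℕ) : List ℕ := nth imgL [] a
noncomputable def nQ : List (List ℕ) := [[],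
  [0,0,0,1,0,1,0,1,0,0,0,1,0,0],
  [1,0,0,0,0,0,1,0,0,0],
  [1,0,1,0,0,1,0,1,0,0,0,0],
  [1,0,0,1,0,1,0,1,0],
  [0,0,0,0,1,0,1,0,1,0,0,1]]

end Cfsg.Agent.CG.J2
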