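import Cfsg.Agent.Lib.Grp.J2.OC0
import Cfsg.Agent.Lib.Grp.J2.Main

set_option autoImplicit false
set_option maxRecDepth 100000
set_option Elab.async false

namespace Cfsg.Agent.CG.J2

theorem chainC : ChainOK act cc [] :=
  chainOK_of_chk act cc [] (by simp) (okc_of_okcb Oc111) Oc112
  (allL_cons Oc108 (allL_cons Oc109 (allL_cons Oc110 (allL_nil _))))

theorem chainP : ChainOK act pc [] :=
  chainOK_of_chk act pc [] (by simp) (okc_of_okcb Oc117) Oc118
  (allL_cons Oc116 (allL_nil _))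

theorem boundsP : Bounds tpR pS (2 ^ 7) :=
  (show prodTC tp = 2 ^ 7 by decide +kernel) ▸ bounds_of_chain Oc115
  (allL_cons Oc113 (allL_nil _))
  (allL_cons Oc114 (allL_nil _))

theorem cardP : Nat.card (cl act.gen pS) = 2 ^ 7 :=
  card_cl_eq chainP (by decide +kernel) boundsP (base.rels Oc119) (by decide +kernel)

theorem centP : ∀ g ∈ Subgroup.centralizer (cl act.gen pS : Set PG), ∃ φ ∈ pF, g = ev act.gen φ :=
  centralizer_subset (l := mc0) (L := [mc1, mc2, mc3, mc4, mc5]) chain card_le base (Q := pQ) (Rf := pR) (by decide +kernel) (by decide +kernel) (by decide +kernel)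
    Oc120

theorem autT (φ : MulAut PG) : ∃ g : PG, φ (act.gen 9) = g * act.gen 9 * g⁻¹ :=
  aut_class base (r := 2) (by norm_num) cardP (not_dvd_of_eq card (by decide +kernel)) centP
    Oc121 φ

theorem autA (φ : MulAut PG) : ∃ g : PG, ∃ a' ∈ aK, g * φ (act.gen 7) * g⁻¹ = act.gen a' :=
  aut_pow base (p := 7) (by norm_num) (not_dvd_of_eq card (by decide +kernel))
    Oc122 φ

theorem enumOK : en.OK app tst 0 315 0 15385921 :=
  (Enum.ok_of_chk Oc123)

theorem cent_le : prodN cc ≤ Nat.card (Subgroup.centralizer {act.gen 9}) :=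
  le_card_centralizer base chainC Oc124

theorem classAll (g : PG) : ∃ f, act.Rep (g * act.gen 9 * g⁻¹) f ∧ tst f = true :=
  Enum.OK.all (A := act) (E := en) enumOK hinv (okc_of_okcb (n := 315) (w := 12) (by decide +kernel)) cent_le
    (card ▸ (ble_iff _ _).1 (by decide +kernel)) g

theorem autPair (φ : MulAut PG) : ∃ s ∈ [(7, 9), (7, 56)], ∃ g : PG, φ (act.gen 7) = g * act.gen s.1 * g⁻¹ ∧ φ (act.gen 9) = g * act.gen s.2 * g⁻¹ :=
  aut_pair base Oc125 (okc_of_okcb (n := 315) (w := 12) (by decide +kernel)) autA autT classAll φ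

theorem sigma : ∃ σ : MulAut PG, σ (act.gen 7) = act.gen 7 ∧ σ (act.gen 9) = act.gen 56 :=
  exists_aut' base bounds rels clS card.ge (img := img)
    (allL_cons Oc126 (allL_cons Oc127 (allL_cons Oc128 (allL_cons Oc129 (allL_cons Oc130 (allL_cons Oc131 (allL_cons Oc132 (allL_cons Oc133 (allL_cons Oc134 (allL_cons Oc135 (allL_cons Oc136 (allL_cons Oc137 (allL_cons Oc138 (allL_cons Oc139 (allL_cons Oc140 (allL_cons Oc141 (allL_cons Oc142 (allL_cons Oc143 (allL_cons Oc144 (allL_cons Oc145 (allL_cons Oc146 (allL_cons Oc147 (allL_cons Oc148 (allL_cons Oc149 (allL_cons Oc150 (allL_nil _))))))))))))))))))))))))))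
    clAT (va := [34,40,33,40,37,34,40,38,37,34,36,38,39,37,34,36,38,36,34]) (vt := [33,40,33,40,36,35,40,37,34,36,38,39,38,37,34,36,38,37,34]) (wa := [34,40,33,40,37,34,40,38,37,34,36,38,39,37,34,36,38,36,34]) (wt := [34,40,33,40,36,35,40,37,34,36,38,39,38,37,34,36,38,37,33]) (by decide +kernel) (by decide +kernel)

theorem card_out : Nat.card (Out PG) = 2 := by
  obtain ⟨σ, h1, h2⟩ := sigma
  exact card_out_eq_two clAT σ h1 h2 (not_conj_pair (l := mc0) (L := [mc1, mc2, mc3, mc4, mc5]) chain card_le base (Q := nQ) (Rf := [[0], [1]]) (by decide +kernel)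
    Oc151) autPair

end Cfsg.Agent.CG.J2
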